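import Groth.Agent.FlatMorGeomConn.SepLevels
import Groth.Agent.FlatMor12.GeomDescent
import Groth.Agent.FlatMor12.ResidueRealise

/-! Geometric connectedness of a fibre via étale neighbourhoods. -/

set_option backward.isDefEq.respectTransparency.types false

universe u

open CategoryTheory Limits AlgebraicGeometry

namespace Groth.Agent.FlatMorGeomConn

open Groth.Agent.VarietyLib

theorem geometricallyConnected_of_sepLevels {k : Type u} [Field k] {X : Scheme.{u}}
    (f : X ⟶ Spec (CommRingCat.of k))
    (h : ∀ (K : Type u) [Field K] [Algebra k K] [Module.Finite k K] [Algebra.IsSeparable k K],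
      ConnectedSpace ↥(pullback f (H8Lim.algSpec k K))) :
    GeometricallyConnected f := by
  let ks := SeparableClosure k
  haveI := preconnectedSpace_sepClosure f h
  haveI : Nonempty ↥(pullback f (sK k ks)) := by
    obtain ⟨x⟩ := (h k).toNonempty
    obtain ⟨y, -⟩ := surjective_fst k f (L := ks) (pullback.fst f (H8Lim.algSpec k k) x)
    exact ⟨y⟩
  haveI : ConnectedSpace ↥(pullback f (sK k ks)) := { toNonempty := inferInstance }
  have hgc : GeometricallyConnected (pullback.snd f (sK k ks)) := by
    refine ⟨geometrically_iff_of_commRing_of_isClosedUnderIsomorphisms.2 fun K _ _ => ?_⟩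
    have := geometricallyIrreducible_algSpec ks K
    let q := Spec.map (CommRingCat.ofHom (algebraMap ks K))
    let p := pullback.fst (pullback.snd f (sK k ks)) q
    haveI : GeometricallyIrreducible p := MorphismProperty.pullback_fst _ _ this
    haveI : GeometricallyConnected p := ⟨fun L _ y P fst snd hP => by
      have := GeometricallyIrreducible.geometrically_irreducibleSpace (f := p) y fst snd hP
      infer_instance⟩
    haveI : UniversallyOpen p := MorphismProperty.pullback_fst _ _ inferInstance
    have hc := Scheme.Hom.isConnected_preimage p p.isOpenMap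
      (isConnected_univ (α := ↥(pullback f (sK k ks)))) isClosed_univ
    rw [Set.preimage_univ] at hc
    exact connectedSpace_iff_univ.mpr hc
  exact ⟨FlatMor12.geometrically_descent
    (fun A B h hs _ _ (hA : ConnectedSpace A) => hs.1.connectedSpace h.continuous)
    (IsPullback.of_hasPullback f (sK k ks)) hgc.geometrically_connectedSpace⟩

theorem geometricallyConnected_fibre_iff {X S : Scheme.{u}} (f : X ⟶ S) (s : S) :
    GeometricallyConnected (f.fiberToSpecResidueField s) ↔
      ∀ (U : Scheme.{u}) (g : U ⟶ S) (u : U), Etale g → g u = s →
        ConnectedSpace ↑((pullback.snd f g).fiber u) := by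
  constructor
  · rintro h U g u - rfl
    haveI := (FlatMor12.fibre_connected_iff (IsPullback.of_hasPullback f g) u).mpr h
    exact GeometricallyConnected.connectedSpace_of_subsingleton
      (f := (pullback.snd f g).fiberToSpecResidueField u)
  · intro h
    refine geometricallyConnected_of_sepLevels (k := S.residueField s) _ fun K _ _ _ _ => ?_
    obtain ⟨U, g, u, hu, hg, ⟨e⟩⟩ := FlatMor12.exists_etale_realise S s K
    haveI := h U g u hg hu
    letI := ((S.residueFieldCongr hu).inv ≫ g.residueFieldMap u).hom.toAlgebra
    let σ : Spec (CommRingCat.of K) ≅ Spec (U.residueField u) :=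
      asIso (Spec.map e.toRingEquiv.toCommRingCatIso.inv)
    have hσ : σ.hom ≫ Spec.map (g.residueFieldMap u) ≫ S.fromSpecResidueField (g u) =
        H8Lim.algSpec (S.residueField s) K ≫ S.fromSpecResidueField s := by
      subst hu
      simp only [σ, asIso_hom, ← Spec.map_comp_assoc]
      congr 2
      ext a
      have := e.symm.commutes a
      rw [RingHom.algebraMap_toAlgebra] at this
      simpa using this
    have A := (IsPullback.of_hasPullback (f.fiberToSpecResidueField s)
      (H8Lim.algSpec (S.residueField s) K)).paste_horiz (IsPullback.of_hasPullback f (S.fromSpecResidueField s))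
    have B := (IsPullback.of_hasPullback (pullback.snd f g) (U.fromSpecResidueField u)).paste_horiz
      (IsPullback.of_hasPullback f g)
    rw [← hσ] at A
    rw [← g.SpecMap_residueFieldMap_fromSpecResidueField u] at B
    have hB' := B.of_iso (Iso.refl _) (Iso.refl _) σ.symm (Iso.refl _) (fst' := pullback.fst (pullback.snd f g) (U.fromSpecResidueField u) ≫ pullback.fst f g)
      (snd' := pullback.snd (pullback.snd f g) (U.fromSpecResidueField u) ≫ σ.inv) (f' := f)
      (g' := σ.hom ≫ Spec.map (g.residueFieldMap u) ≫ S.fromSpecResidueField (g u))
      (by simp) (by simp) (by simp) (by simp [σ])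
    haveI : ConnectedSpace ↥(pullback (pullback.snd f g) (U.fromSpecResidueField u)) := h U g u hg hu
    exact (hB'.isoIsPullback _ _ A).hom.homeomorph.surjective.connectedSpace
      (hB'.isoIsPullback _ _ A).hom.continuous

end Groth.Agent.FlatMorGeomConn
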