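import Groth.Agent.VarietyLib.GeomPoints
import Groth.Agent.VarietyLib.GaloisFibre
import Groth.Agent.H8Lim.GeomConnected

/-! Geometric connectedness is tested on finite separable extensions, without compactness. -/

set_option backward.isDefEq.respectTransparency.types false

universe u

open CategoryTheory Limits AlgebraicGeometry Set

namespace Groth.Agent.FlatMorGeomConn

open Groth.Agent.VarietyLib

variable (L : Type u) [Field L] {Y : Scheme.{u}} (g : Y ⟶ Spec (CommRingCat.of L))
variable (M : Type u) [Field M] [Algebra L M]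

theorem eq_empty_or_univ_of_saturated [Normal L M] [ConnectedSpace Y]
    {U : Set ↥(pullback g (sK L M))} (hU : IsClopen U) {T : Set Y} (hTne : T.Nonempty)
    (hsat : ∀ p q : ↥(pullback g (sK L M)), pullback.fst g (sK L M) p = pullback.fst g (sK L M) q →
      pullback.fst g (sK L M) p ∈ T → p ∈ U → q ∈ U) :
    U = ∅ ∨ U = univ := by
  let π := pullback.fst g (sK L M)
  haveI := isIntegralHom_fst L g (L := M)
  haveI : UniversallyOpen π := MorphismProperty.pullback_fst _ _ inferInstance
  have hclo : ∀ S : Set ↥(pullback g (sK L M)), IsClopen S → IsClopen (π '' S) := fun S hS =>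
    ⟨π.isClosedMap _ hS.1, π.isOpenMap _ hS.2⟩
  have hinv : ∀ τ : M ≃ₐ[L] M, ∀ q, q ∈ U → gal L g τ q ∈ U := by
    intro τ q hq
    by_contra hn
    have hS : IsClopen (U ∩ (gal L g τ ⁻¹' U)ᶜ) :=
      hU.inter (hU.preimage (gal L g τ).continuous).compl
    rcases isClopen_iff.mp (hclo _ hS) with h | h
    · exact (Set.eq_empty_iff_forall_notMem.mp h (π q)) ⟨q, ⟨hq, hn⟩, rfl⟩
    · obtain ⟨t, ht⟩ := hTne
      obtain ⟨p, ⟨hpU, hpn⟩, hpt⟩ := h.ge (mem_univ t)
      exact hpn (hsat p _ (gal_fst_apply L g τ p).symm (hpt ▸ ht) hpU)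
  have hsat' : π ⁻¹' (π '' U) = U := by
    refine subset_antisymm ?_ (subset_preimage_image _ _)
    rintro p ⟨q, hq, hqp⟩
    obtain ⟨τ, rfl⟩ := exists_gal_apply_eq L g hqp.symm
    exact hinv τ q hq
  rcases isClopen_iff.mp (hclo _ hU) with h | h
  · exact Or.inl (Set.image_eq_empty.mp h)
  · exact Or.inr (by rw [← hsat', h, preimage_univ])

variable {k : Type u} [Field k] {X : Scheme.{u}} (f : X ⟶ Spec (CommRingCat.of k))

theorem preconnectedSpace_sepClosure
    (h : ∀ (K : Type u) [Field K] [Algebra k K] [Module.Finite k K] [Algebra.IsSeparable k K],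
      ConnectedSpace ↥(pullback f (H8Lim.algSpec k K))) :
    PreconnectedSpace ↥(pullback f (sK k (SeparableClosure k))) := by
  classical
  refine preconnectedSpace_iff_clopen.mpr fun U hU => ?_
  let ks := SeparableClosure k
  haveI : ConnectedSpace ↥(pullback f (sK k k)) := h k
  obtain ⟨_, ⟨T, hT, rfl⟩, hxT, -⟩ := X.isBasis_affineOpens.exists_subset_of_mem_open
    (Set.mem_univ (pullback.fst f (sK k k) (Classical.arbitrary _))) isOpen_univ
  let π := pullback.fst f (sK k ks)
  have hπT : IsCompact (π ⁻¹' (T : Set X)) := by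
    haveI : QuasiCompact π := MorphismProperty.pullback_fst _ _ inferInstance
    exact π.isCompact_preimage hT.isCompact
  have hK : IsCompact (π ⁻¹' (T : Set X) ∩ U) := hπT.inter_right hU.1
  choose σ hσ using fun p : ↥(π ⁻¹' (T : Set X) ∩ U) => H8Lim.exists_finset_nhd f ks hU.2 p.2.2
  have hW : ∀ p : ↥(π ⁻¹' (T : Set X) ∩ U), ∃ W : Set ↥(pullback f (sK k ks)), IsOpen W ∧
      p.1 ∈ W ∧ ∀ (A : IntermediateField k ks), (↑(σ p) : Set ks) ⊆ A →
        ∀ a b, a ∈ W → tr k f A ks a = tr k f A ks b → b ∈ U := by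
    intro p
    let A₀ := IntermediateField.adjoin k (↑(σ p) : Set ks)
    obtain ⟨O', hO'⟩ := hσ p A₀.toSubalgebra (IntermediateField.subset_adjoin k _)
    obtain ⟨h1, h2⟩ := hO' (tr k f A₀ ks) (tr_fst k f A₀ _) (pullback.lift_snd _ _ _)
    refine ⟨tr k f A₀ ks ⁻¹' (O' : Set _), O'.2.preimage (tr k f A₀ ks).continuous, h1,
      fun A hA a b ha hab => h2 ?_⟩
    have hle : A₀ ≤ A := IntermediateField.adjoin_le_iff.mpr hA
    let t : pullback f (sK k A) ⟶ pullback f (sK k A₀) :=
      pullback.map _ _ _ _ (𝟙 X) (Spec.map (CommRingCat.ofHom (IntermediateField.inclusion hle).toRingHom))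
        (𝟙 _) (by simp) (by
          rw [Category.comp_id, ← Spec.map_comp, ← CommRingCat.ofHom_comp]
          rfl)
    have htr : tr k f A ks ≫ t = tr k f A₀ ks := by
      apply pullback.hom_ext
      · simp only [tr, t, Category.assoc, pullback.lift_fst, pullback.lift_fst_assoc, Category.comp_id, Category.id_comp]
      · simp only [tr, t, Category.assoc, pullback.lift_snd, pullback.lift_snd_assoc]
        rw [← Spec.map_comp, ← CommRingCat.ofHom_comp]
        rfl
    show tr k f A₀ ks b ∈ (O' : Set _)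
    rw [← htr, Scheme.Hom.comp_apply, ← hab, ← Scheme.Hom.comp_apply, htr]
    exact ha
  choose W hWo hpW hWsat using hW
  obtain ⟨F, hF⟩ := hK.elim_finite_subcover W hWo fun p hp => Set.mem_iUnion.mpr ⟨⟨p, hp⟩, hpW _⟩
  let L : IntermediateField k ks := IntermediateField.adjoin k (↑(F.biUnion σ) : Set ks)
  have : FiniteDimensional k L :=
    IntermediateField.finiteDimensional_adjoin fun x _ => Algebra.IsIntegral.isIntegral x
  have : Algebra.IsSeparable k L := Algebra.isSeparable_tower_bot_of_isSeparable k L ks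
  have : Normal L ks := Normal.tower_top_of_normal k L ks
  let g := pullback.snd f (sK k L)
  haveI : ConnectedSpace ↥(pullback f (sK k L)) := h L
  let e : pullback f (sK k ks) ≅ pullback g (sK L ks) := (isPullback_tr k f L ks).isoPullback
  have he : e.hom ≫ pullback.fst g (sK L ks) = tr k f L ks := IsPullback.isoPullback_hom_fst _
  have hcases := eq_empty_or_univ_of_saturated L g ks (U := e.inv ⁻¹' U)
    (hU.preimage e.inv.continuous) (T := pullback.fst f (sK k L) ⁻¹' (T : Set X))
    (by
      obtain ⟨z, hz⟩ := surjective_fst k f (L := L) (pullback.fst f (sK k k) (Classical.arbitrary _))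
      exact ⟨z, show _ ∈ (T : Set X) by rw [hz]; exact hxT⟩)
    (by
      intro p q hpq hpT hpU
      obtain ⟨a, rfl⟩ := e.hom.homeomorph.surjective p
      obtain ⟨b, rfl⟩ := e.hom.homeomorph.surjective q
      change pullback.fst g (sK L ks) (e.hom a) = pullback.fst g (sK L ks) (e.hom b) at hpq
      change pullback.fst g (sK L ks) (e.hom a) ∈ _ at hpT
      change e.inv (e.hom a) ∈ U at hpU
      show e.inv (e.hom b) ∈ U
      simp only [← Scheme.Hom.comp_apply, he, Iso.hom_inv_id] at hpq hpT hpU ⊢
      have haT : π a ∈ (T : Set X) := by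
        rw [Set.mem_preimage, tr_fst_apply] at hpT
        exact hpT
      obtain ⟨i, hi, ha⟩ := Set.mem_iUnion₂.mp (hF ⟨haT, hpU⟩)
      exact hWsat i L (fun x hx => IntermediateField.subset_adjoin k _
        (Finset.mem_coe.2 (Finset.mem_biUnion.2 ⟨i, hi, hx⟩))) a b ha hpq)
  have hs : Function.Surjective e.inv := e.inv.homeomorph.surjective
  rcases hcases with h0 | h0
  · exact Or.inl (hs.preimage_injective (h0.trans preimage_empty.symm))
  · exact Or.inr (hs.preimage_injective (h0.trans preimage_univ.symm))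

end Groth.Agent.FlatMorGeomConn
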